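import Cfsg.Agent.H209.Five.NatKit

/-!
# S3568, the configuration `Nat5` with `|Q₁| = 16` (helper647)
-/

set_option autoImplicit false
set_option linter.unusedSectionVars false

open Pointwise

namespace Cfsg.Agent.H647.Five

open Cfsg.Agent.H399 Cfsg.Agent.H209.Five

universe u

/-- the statement of `e960` -/
def E960 : Prop := ∀ (G : Type u) [Group G] [Finite G] (Q₁ Q₂ : Subgroup G), QPair Q₁ Q₂ 16 4 → ∀ g : G,
  cj g Q₁ = Q₂ → cj g Q₂ = Q₁ → Nat.card ↥(Nm Q₁) = 960 → Nat.card ↥(Nm Q₁ ⊓ Nm Q₂) = 192 →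
  (∀ x ∈ Q₁, ∀ y ∈ Q₁, x ≠ 1 → y ≠ 1 → ∃ a ∈ Nm Q₁, a * x * a⁻¹ = y) → ∃ H : Subgroup G, H.index = 2

/-- the statement of `e1920` -/
def E1920 : Prop := ∀ (G : Type u) [Group G] [Finite G] (Q₁ Q₂ : Subgroup G), QPair Q₁ Q₂ 16 4 → ∀ g : G,
  cj g Q₁ = Q₂ → cj g Q₂ = Q₁ → Nat.card ↥(Nm Q₁) = 1920 → Nat.card ↥(Nm Q₁ ⊓ Nm Q₂) = 384 →
  (∃ a ∈ Nm Q₁ ⊓ Nm Q₂, ∃ b ∈ Nm Q₁ ⊓ Nm Q₂, a * b * a⁻¹ * b⁻¹ ∉ Q₁ ⊔ Q₂) →
  (∀ x ∈ Q₁, ∀ y ∈ Q₁, x ≠ 1 → y ≠ 1 → ∃ a ∈ Nm Q₁, a * x * a⁻¹ = y) → ∃ H : Subgroup G, H.index = 2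

variable {G : Type u} [Group G] [Finite G] {A B : Subgroup G} {g : G} {m : ℕ}

/-! ### general facts on `Nat5` -/

section gen

theorem hLN (h : Nat5 A B g m) : LL A B ≤ Nm (Op 2 A) := h.Lle.trans (le_Nm_Op 2 A)

theorem op_ne (h : Nat5 A B g m) : Op 2 A ≠ ⊥ := by
  intro h1
  have h2 := h.pair.ea₁.card
  rw [h1, Subgroup.card_bot] at h2
  rcases h.hm with h3 | h3 <;> omega

theorem NmQ (h : Nat5 A B g m) : Nm (Op 2 A) = A := h.pr.Nm_eq (Op_le 2 A) (op_ne h) (le_Nm_Op 2 A)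

theorem card_LL (h : Nat5 A B g m) : Nat.card ↥(LL A B) = 4 * m * 60 := by
  rw [← card_mul_relIndex h.QL, h.Lcard, h.pair.ea₁.card]

theorem QKeq (h : Nat5 A B g m) : Nat.card ↥(core A (A ⊓ B)) = 4 * m * (Op 2 A).relIndex (core A (A ⊓ B)) := by
  rw [← card_mul_relIndex h.QK, h.pair.ea₁.card]

theorem cardA (h : Nat5 A B g m) : Nat.card A =
    4 * m * (Op 2 A).relIndex (core A (A ⊓ B)) * (core A (A ⊓ B)).relIndex A := by
  rw [← card_mul_relIndex ((core_le A (A ⊓ B)).trans inf_le_left), QKeq h]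

theorem cardD (h : Nat5 A B g m) : Nat.card A = 5 * Nat.card ↥(A ⊓ B) := h.pr.card_A

/-- a subgroup of index two containing `L₁` but not `A` -/
theorem index_two_inf {H K : Subgroup G} (hH : H.index = 2) (hK : ¬ K ≤ H) : 2 * Nat.card ↥(K ⊓ H) = Nat.card K := by
  have hn : H.Normal := Subgroup.normal_of_index_eq_two hH
  have h1 := card_inf_mul_relIndex K H
  have h2 : H.relIndex K ∣ 2 := by
    rw [← hH]
    exact Subgroup.relIndex_dvd_index_of_normal H K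
  have h3 : H.relIndex K ≠ 1 := by
    intro h3
    exact hK (Subgroup.relIndex_eq_one.1 h3)
  have h4 : H.relIndex K = 2 := by
    rcases (Nat.dvd_prime Nat.prime_two).1 h2 with h4 | h4
    · exact absurd h4 h3
    · exact h4
  rw [h4, inf_comm] at h1
  omega

end gen

/-! ### `|Q₁| = 16` -/

section D16

theorem cent_bot (h : Nat5 A B g 4) : Op 2 A ⊓ Subgroup.centralizer (LL A B : Set G) = ⊥ := by
  obtain ⟨ρ, ψ, hn⟩ := h.nat
  have h1 := hn.card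
  rw [h.pair.ea₁.card] at h1
  exact Subgroup.card_eq_one.1 (by omega)

theorem trans_L (h : Nat5 A B g 4) : ∀ x ∈ Op 2 A, ∀ y ∈ Op 2 A, x ≠ 1 → y ≠ 1 → ∃ a ∈ LL A B, a * x * a⁻¹ = y := by
  obtain ⟨ρ, ψ, hn⟩ := h.nat
  have hc := cent_bot h
  have h0 : ∀ x ∈ Op 2 A, x ∈ Subgroup.centralizer (LL A B : Set G) → x = 1 := by
    intro x hx hx'
    have : x ∈ Op 2 A ⊓ Subgroup.centralizer (LL A B : Set G) := ⟨hx, hx'⟩
    rwa [hc, Subgroup.mem_bot] at this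
  intro x hx y hy hx1 hy1
  obtain ⟨l, hl, h2⟩ := hn.trans (hLN h) hx hy (fun h1 => hx1 (h0 x hx h1)) (fun h1 => hy1 (h0 y hy h1))
  refine ⟨l, hl, ?_⟩
  have h3 : l * x * l⁻¹ ∈ Op 2 A := le_Nm.1 (hLN h) l hl x hx
  exact mul_inv_eq_one.1 (h0 _ ((Op 2 A).mul_mem h3 ((Op 2 A).inv_mem hy)) h2)

/-- restriction of a `QPair` to a subgroup -/
theorem ea_sub {Q H : Subgroup G} {n : ℕ} (h : EA Q n) (hQ : Q ≤ H) : EA (Q.subgroupOf H) n where
  card := by rw [← h.card]; exact Nat.card_congr (Subgroup.subgroupOfEquivOfLe hQ).toEquiv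
  comm := fun x hx y hy => Subtype.ext (h.comm x hx y hy)
  sq := fun x hx => Subtype.ext (h.sq x hx)

theorem nm_sub {X H : Subgroup G} (hX : X ≤ H) : Nm (X.subgroupOf H) = (Nm X).subgroupOf H := by
  ext y
  rw [Subgroup.mem_subgroupOf, Subgroup.mem_normalizer_iff, Subgroup.mem_normalizer_iff]
  constructor
  · intro h z
    constructor
    · intro hz
      exact (h ⟨z, hX hz⟩).1 hz
    · intro hz
      have hzH : z ∈ H := by
        have h1 := hX hz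
        have h2 := H.mul_mem (H.mul_mem (H.inv_mem y.2) h1) y.2
        have h3 : (y : G)⁻¹ * ((y : G) * z * (y : G)⁻¹) * y = z := by group
        rwa [h3] at h2
      exact (h ⟨z, hzH⟩).2 hz
  · intro h z
    exact h z

theorem qp_sub {Q₁ Q₂ H : Subgroup G} {n m : ℕ} (h : QPair Q₁ Q₂ n m) (h1 : Q₁ ≤ H) (h2 : Q₂ ≤ H) :
    QPair (Q₁.subgroupOf H) (Q₂.subgroupOf H) n m where
  ea₁ := ea_sub h.ea₁ h1
  ea₂ := ea_sub h.ea₂ h2
  inf := by
    have h3 : Q₁.subgroupOf H ⊓ Q₂.subgroupOf H = (Q₁ ⊓ Q₂).subgroupOf H := by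
      ext x; rfl
    rw [h3, ← h.inf]
    exact Nat.card_congr (Subgroup.subgroupOfEquivOfLe (inf_le_left.trans h1)).toEquiv
  nm₁ := by
    rw [nm_sub h1]
    exact fun x hx => h.nm₁ hx
  nm₂ := by
    rw [nm_sub h2]
    exact fun x hx => h.nm₂ hx
  nondeg := fun x hx y hy hxy => h.nondeg x hx y hy (congrArg Subtype.val hxy)

theorem cj_sub {X Y H : Subgroup G} {x : G} (hx : x ∈ H) (hXY : cj x X = Y) :
    cj (⟨x, hx⟩ : ↥H) (X.subgroupOf H) = Y.subgroupOf H := by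
  ext y
  rw [mem_cj, Subgroup.mem_subgroupOf, Subgroup.mem_subgroupOf, ← hXY, mem_cj]
  rfl

theorem case_960 (H960 : E960.{u}) (h : Nat5 A B g 4) (h' : Nat5 B A g⁻¹ 4) (hA : Nat.card A = 960) : False := by
  have hD : Nat.card ↥(A ⊓ B) = 192 := by
    have := cardD h
    omega
  obtain ⟨H, hH⟩ := H960 G (Op 2 A) (Op 2 B) h.pair g h.gQ h.gQ' (by rw [NmQ h, hA]) (by rw [NmQ h, NmQ h', hD]) (by
    intro x hx y hy hx1 hy1
    obtain ⟨a, ha, h1⟩ := trans_L h x hx y hy hx1 hy1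
    exact ⟨a, hLN h ha, h1⟩)
  have h1 : LL A B ≤ H := h.LL_le (M := H) (H := ⊤) le_top le_top (by rw [Subgroup.relIndex_top_right, hH])
  have h2 : LL A B = A := Subgroup.eq_of_le_of_card_ge h.Lle (by rw [card_LL h, hA])
  rw [h2] at h1
  exact h.pr.not_le_index_two hH h1

theorem case_1920 (H960 : E960.{u}) (H1920 : E1920.{u}) (h : Nat5 A B g 4) (h' : Nat5 B A g⁻¹ 4)
    (hA : Nat.card A = 1920) (hAK : (core A (A ⊓ B)).relIndex A = 120) : False := by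
  have hD : Nat.card ↥(A ⊓ B) = 384 := by
    have := cardD h
    omega
  have hB : Nat.card B = 1920 := by rw [h.pr.card_eq, hA]
  -- elements of `D` whose commutator is not a 2-element
  obtain ⟨φ, hφ⟩ := exists_hom5 h.pr.idx
  have hsurj : Function.Surjective φ := by
    rw [← MonoidHom.range_eq_top]
    apply Subgroup.eq_top_of_card_eq
    rw [hφ.card_range, hAK, card_perm5]
  obtain ⟨a, ha⟩ := hsurj (Equiv.swap 1 2)
  obtain ⟨b, hb⟩ := hsurj (Equiv.swap 1 2 * Equiv.swap 2 3)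
  have haD : (a : G) ∈ A ⊓ B := (hφ.stab a).2 (by rw [ha]; decide)
  have hbD : (b : G) ∈ A ⊓ B := (hφ.stab b).2 (by rw [hb]; decide)
  have hcomm : (a : G) * b * (a : G)⁻¹ * (b : G)⁻¹ ∉ Op 2 A ⊔ Op 2 B := by
    rw [h.sup]
    intro hc
    obtain ⟨k, hk⟩ := (isPGroup_Op 2 (A ⊓ B)) ⟨_, hc⟩
    have h0 : ((a : G) * b * (a : G)⁻¹ * (b : G)⁻¹) ^ 2 ^ k = 1 := congrArg Subtype.val hk
    have h1 : (a * b * a⁻¹ * b⁻¹) ^ 2 ^ k = 1 := Subtype.ext h0
    have h2 : (φ (a * b * a⁻¹ * b⁻¹)) ^ 2 ^ k = 1 := by rw [← map_pow, h1, map_one]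
    have h3 : φ (a * b * a⁻¹ * b⁻¹) = Equiv.swap 1 2 * (Equiv.swap 1 2 * Equiv.swap 2 3) * (Equiv.swap 1 2)⁻¹ *
        (Equiv.swap 1 2 * Equiv.swap 2 3)⁻¹ := by
      rw [map_mul, map_mul, map_mul, map_inv, map_inv, ha, hb]
    rw [h3] at h2
    have h4 : (Equiv.swap (1 : Fin 5) 2 * (Equiv.swap 1 2 * Equiv.swap 2 3) * (Equiv.swap 1 2)⁻¹ *
        (Equiv.swap 1 2 * Equiv.swap 2 3)⁻¹) ^ 3 = 1 := by decide
    have h5 : orderOf (Equiv.swap (1 : Fin 5) 2 * (Equiv.swap 1 2 * Equiv.swap 2 3) * (Equiv.swap 1 2)⁻¹ *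
        (Equiv.swap 1 2 * Equiv.swap 2 3)⁻¹) ∣ 1 := by
      have h6 : Nat.Coprime (2 ^ k) 3 := Nat.Coprime.pow_left _ (by norm_num)
      rw [← h6]
      exact Nat.dvd_gcd (orderOf_dvd_of_pow_eq_one h2) (orderOf_dvd_of_pow_eq_one h4)
    have h6 := orderOf_eq_one_iff.1 (Nat.dvd_one.1 h5)
    revert h6
    decide
  obtain ⟨H, hH⟩ := H1920 G (Op 2 A) (Op 2 B) h.pair g h.gQ h.gQ' (by rw [NmQ h, hA]) (by rw [NmQ h, NmQ h', hD])
    (by
      rw [NmQ h, NmQ h']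
      exact ⟨a, haD, b, hbD, hcomm⟩) (by
    intro x hx y hy hx1 hy1
    obtain ⟨a, ha, h1⟩ := trans_L h x hx y hy hx1 hy1
    exact ⟨a, hLN h ha, h1⟩)
  have hL1 : LL A B ≤ H := h.LL_le (M := H) (H := ⊤) le_top le_top (by rw [Subgroup.relIndex_top_right, hH])
  have hL2 : LL B A ≤ H := h'.LL_le (M := H) (H := ⊤) le_top le_top (by rw [Subgroup.relIndex_top_right, hH])
  have nA : ¬ A ≤ H := h.pr.not_le_index_two hH
  have nB : ¬ B ≤ H := h.pr.symm.not_le_index_two hH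
  have nD : ¬ A ⊓ B ≤ H := fun h1 => nA (h.LD.trans (sup_le hL1 h1))
  have eA : A ⊓ H = LL A B := by
    have h1 := index_two_inf hH nA
    have h2 := card_LL h
    exact (Subgroup.eq_of_le_of_card_ge (le_inf h.Lle hL1) (by omega)).symm
  have eB : B ⊓ H = LL B A := by
    have h1 := index_two_inf hH nB
    have h2 := card_LL h'
    exact (Subgroup.eq_of_le_of_card_ge (le_inf h'.Lle hL2) (by omega)).symm
  have eD : Nat.card ↥(A ⊓ B ⊓ H) = 192 := by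
    have h1 := index_two_inf hH nD
    omega
  -- an element of `H` interchanging `Q₁` and `Q₂`
  obtain ⟨x, hxH, hx1, hx2⟩ : ∃ x ∈ H, cj x (Op 2 A) = Op 2 B ∧ cj x (Op 2 B) = Op 2 A := by
    by_cases hg : g ∈ H
    · exact ⟨g, hg, h.gQ, h.gQ'⟩
    · obtain ⟨d, hd, hdH⟩ := Set.not_subset.1 nD
      refine ⟨g * d, ?_, ?_, ?_⟩
      · exact (Subgroup.mul_mem_iff_of_index_two hH).2 ⟨fun h1 => absurd h1 hg, fun h1 => absurd h1 hdH⟩
      · rw [cj_mul, cj_of_mem_Nm (le_Nm_Op 2 A hd.1), h.gQ]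
      · rw [cj_mul, cj_of_mem_Nm (le_Nm_Op 2 B hd.2), h.gQ']
  have q1 : Op 2 A ≤ H := h.QL.trans hL1
  have q2 : Op 2 B ≤ H := h'.QL.trans hL2
  obtain ⟨M', hM'⟩ := H960 ↥H ((Op 2 A).subgroupOf H) ((Op 2 B).subgroupOf H) (qp_sub h.pair q1 q2) ⟨x, hxH⟩
    (cj_sub hxH hx1) (cj_sub hxH hx2) (by
      rw [nm_sub q1, NmQ h]
      have h1 : A.subgroupOf H = (A ⊓ H).subgroupOf H := (Subgroup.inf_subgroupOf_right A H).symm
      rw [h1, Nat.card_congr (Subgroup.subgroupOfEquivOfLe inf_le_right).toEquiv, eA, card_LL h]) (by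
      rw [nm_sub q1, NmQ h, nm_sub q2, NmQ h']
      have h1 : A.subgroupOf H ⊓ B.subgroupOf H = (A ⊓ B ⊓ H).subgroupOf H := by
        rw [Subgroup.inf_subgroupOf_right]
        rfl
      rw [h1, Nat.card_congr (Subgroup.subgroupOfEquivOfLe inf_le_right).toEquiv, eD]) (by
    intro x hx y hy hx1 hy1
    obtain ⟨a, ha, h1⟩ := trans_L h x hx y hy (fun h2 => hx1 (Subtype.ext h2)) (fun h2 => hy1 (Subtype.ext h2))
    refine ⟨⟨a, hL1 ha⟩, ?_, Subtype.ext h1⟩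
    rw [nm_sub q1]
    exact hLN h ha)
  set M : Subgroup G := M'.map H.subtype with hM
  have hMH : M ≤ H := Subgroup.map_subtype_le _
  have hMr : M.relIndex H = 2 := by
    rw [Subgroup.relIndex, hM, Subgroup.subgroupOf, Subgroup.comap_map_eq_self_of_injective H.subtype_injective, hM']
  have m1 : LL A B ≤ M := h.LL_le hMH hL1 hMr
  have m2 : LL B A ≤ M := h'.LL_le hMH hL2 hMr
  -- `N = L₁ ⊔ L₂` is normal
  set N : Subgroup G := LL A B ⊔ LL B A with hN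
  have dN : A ⊓ B ≤ Nm N := sup_le_Nm (inf_le_left.trans (le_Nm_ncl A _)) (inf_le_right.trans (le_Nm_ncl B _))
  have aN : A ≤ Nm N := h.LD.trans (sup_le (le_sup_left.trans (self_le_Nm N)) dN)
  have bN : B ≤ Nm N := h'.LD.trans (sup_le (le_sup_right.trans (self_le_Nm N)) (by rw [inf_comm]; exact dN))
  have tN : Nm N = ⊤ := by
    rw [eq_top_iff, ← h.pr.gen]
    exact sup_le aN bN
  have nNA : ¬ N ≤ A := by
    intro h1
    have h2 := h.pr.eq_bot_of_top h1 tN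
    have h3 : LL A B = ⊥ := by
      rw [eq_bot_iff, ← h2]
      exact le_sup_left
    have h4 := card_LL h
    rw [h3, Subgroup.card_bot] at h4
    omega
  have hAN : A ⊔ N = ⊤ := h.pr.top_of le_sup_left (fun h1 => nNA (le_sup_right.trans h1))
  have h1 : N.index = N.relIndex A := by
    rw [← Subgroup.relIndex_top_right, ← hAN]
    exact relIndex_sup_of_left aN
  have h2 : N.relIndex A ∣ (LL A B).relIndex A := Subgroup.relIndex_dvd_of_le_left A le_sup_left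
  have h3 : (LL A B).relIndex A = 2 := by
    have h4 := card_mul_relIndex h.Lle
    rw [card_LL h, hA] at h4
    omega
  have h5 : M.index = 4 := by
    rw [← Subgroup.relIndex_mul_index hMH, hMr, hH]
  have h6 : M.index ∣ N.index := Subgroup.index_dvd_of_le (sup_le m1 m2)
  rw [h5, h1] at h6
  rw [h3] at h2
  have h7 := Nat.le_of_dvd (by norm_num) (h6.trans h2)
  omega

/-- **case `|Q₁| = 16`** -/
theorem case_d_of (H960 : E960.{u}) (H1920 : E1920.{u}) (h : Nat5 A B g 4) (h' : Nat5 B A g⁻¹ 4) :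
    Nat.card A = 2880 ∨ Nat.card A = 5760 := by
  have h1 := cardA h
  rcases h.relIndex_QK h' with h2 | h2 <;> rcases h.relIndex_AK with h3 | h3 <;> rw [h2, h3] at h1
  · exact (case_960 H960 h h' h1).elim
  · exact (case_1920 H960 H1920 h h' h1 h3).elim
  · exact Or.inl h1
  · exact Or.inr h1

end D16

end Cfsg.Agent.H647.Five
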