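import Cfsg.Agent.H209.Five.Push
import Cfsg.Agent.H209.Five.NatKit
import Cfsg.Agent.S2764
import Cfsg.Agent.S2765
import Cfsg.Agent.S0252
import Cfsg.Agent.S0242

/-!
# S3568: pushing up (helper647)
-/

set_option autoImplicit false
set_option linter.unusedSectionVars false

open Pointwise
open scoped commutatorElement

namespace Cfsg.Agent.H647.Five

open Cfsg.Agent.H399 Cfsg.Agent.H209.Five
open Cfsg (IsSylowTwoIn)

variable {G : Type*} [Group G]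

/-- characteristic subgroups of a subgroup are normalised by its normaliser -/
theorem cj_of_char {L T : Subgroup G} (S' : Subgroup ↥L) (hS : S'.map L.subtype = T) (C : Subgroup ↥S')
    (hC : C.Characteristic) {x : G} (hx : x ∈ Nm T) :
    cj x ((C.map S'.subtype).map L.subtype) = (C.map S'.subtype).map L.subtype := by
  let e : ↥S' ≃* ↥T := (S'.equivMapOfInjective L.subtype L.subtype_injective).trans (MulEquiv.subgroupCongr hS)
  have he : ∀ s : ↥S', ((e s : ↥T) : G) = ((s : ↥L) : G) := fun s => rfl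
  let β : MulAut ↥T := Subgroup.normalizerMonoidHom T ⟨x, hx⟩
  have hβ : ∀ t : ↥T, ((β t : ↥T) : G) = x * t * x⁻¹ := fun t => rfl
  let α : ↥S' ≃* ↥S' := e.trans (β.trans e.symm)
  have hα : ∀ s : ↥S', (((α s : ↥S') : ↥L) : G) = x * ((s : ↥L) : G) * x⁻¹ := by
    intro s
    have h1 : e (α s) = β (e s) := e.apply_symm_apply _
    rw [← he, h1, hβ, he]
  have h1 := Subgroup.characteristic_iff_map_eq.1 hC α
  rw [cj_eq_map, Subgroup.map_map, Subgroup.map_map]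
  conv_rhs => rw [← h1, Subgroup.map_map, Subgroup.map_map]
  congr 1
  ext s
  exact (hα s).symm

section

variable [Finite G] {A B : Subgroup G} {g : G}

theorem TleL : Op 2 (A ⊓ B) ≤ LL A B := le_ncl A _

theorem QleL (h : Pre A B g) : Op 2 A ≤ LL A B := h.QT.trans TleL

theorem ANmL : A ≤ Nm (LL A B) := le_Nm_ncl A _

theorem DNmT : A ⊓ B ≤ Nm (Op 2 (A ⊓ B)) := le_Nm_Op 2 _

/-- `|L₁ ∩ K₁ : Q₁|` is odd -/
theorem K_odd (h : Pre A B g) : Odd ((Op 2 A).relIndex (LL A B ⊓ core A (A ⊓ B))) := by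
  set K := LL A B ⊓ core A (A ⊓ B) with hK
  have hAK : A ≤ Nm K := inf_le_Nm ANmL (le_Nm_core A _)
  have hKA : K ≤ A := inf_le_left.trans h.Lle
  have hQK : Op 2 A ≤ K := le_inf (QleL h) h.QK
  obtain ⟨Y, hY⟩ := exists_syl K
  have hQY : Op 2 A ≤ Y := le_syl_of_normal hY (isPGroup_Op 2 A) hQK (hKA.trans (le_Nm_Op 2 A))
  have hKY : K ≤ Nm Y := by
    rw [le_Nm]
    intro k hk y hy
    have h1 := hQY (h.comm k hk.2 y (hY.1 hy).1)
    have h2 := Y.mul_mem h1 hy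
    rwa [inv_mul_cancel_right] at h2
  have hAY : A ≤ Nm Y := by
    rw [le_Nm']
    intro a ha
    have h1 : cj a Y ≤ Y := by
      refine le_syl_of_normal hY (isPGroup_cj a hY.2.1) ?_ ?_
      · rw [← le_Nm'.1 hAK a ha, cj_le_cj]
        exact hY.1
      · rw [← cj_Nm, ← le_Nm'.1 hAK a ha, cj_le_cj]
        exact hKY
    exact Subgroup.eq_of_le_of_card_ge h1 (by rw [card_cj])
  have hYQ : Y = Op 2 A := le_antisymm (le_Op (hY.1.trans hKA) hAY hY.2.1) hQY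
  rw [← hYQ]
  exact hY.2.2

variable {φ : ↥A →* Equiv.Perm (Fin 5)} (hφ : Hom5 A (A ⊓ B) φ)

include hφ

theorem map_L (h : Pre A B g) : ((LL A B).subgroupOf A).map φ = alternatingGroup (Fin 5) := by
  ext σ
  rw [Equiv.Perm.mem_alternatingGroup]
  constructor
  · rintro ⟨l, hl, rfl⟩
    exact h.Leven φ hφ l hl
  · intro hσ
    obtain ⟨l, hl, h1⟩ := h.Lalt φ hφ σ hσ
    exact ⟨l, hl, h1⟩

theorem KL (h : Pre A B g) : (core A (A ⊓ B)).relIndex (LL A B) = 60 := by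
  rw [hφ.relIndex_core_eq h.Lle, map_L hφ h]
  rw [Nat.card_eq_fintype_card]
  decide +kernel

theorem QL (h : Pre A B g) : (Op 2 A).relIndex (LL A B) =
    (Op 2 A).relIndex (LL A B ⊓ core A (A ⊓ B)) * 60 := by
  rw [← KL hφ h, ← Subgroup.relIndex_mul_relIndex (Op 2 A) (LL A B ⊓ core A (A ⊓ B)) (LL A B)
    (le_inf (QleL h) h.QK) inf_le_left, inf_comm, Subgroup.inf_relIndex_right]

theorem T_syl (h : Pre A B g) : IsSylowTwoIn (Op 2 (A ⊓ B)) (LL A B) := by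
  refine ⟨TleL, isPGroup_Op 2 _, ?_⟩
  have h1 := Subgroup.relIndex_mul_relIndex (Op 2 A) (Op 2 (A ⊓ B)) (LL A B) h.QT TleL
  rw [h.Tidx, QL hφ h] at h1
  obtain ⟨k, hk⟩ := K_odd h
  rw [hk] at h1
  have h2 : (Op 2 (A ⊓ B)).relIndex (LL A B) = 2 * (15 * k + 7) + 1 := by omega
  exact ⟨_, h2⟩

/-! ### the image of `T` is the Klein four-group -/

omit hφ in
theorem mem_V4_key : ∀ σ : Equiv.Perm (Fin 5), σ 0 = 0 → Equiv.Perm.sign σ = 1 → σ * σ = 1 →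
    (σ = 1 ∨ σ = v1 ∨ σ = v2 ∨ σ = v3) := by decide +kernel

theorem phi_T_le (h : Pre A B g) : ((Op 2 (A ⊓ B)).subgroupOf A).map φ ≤ V4 := by
  rintro _ ⟨t, ht, rfl⟩
  have ht' : (t : G) ∈ Op 2 (A ⊓ B) := ht
  refine mem_V4_key _ ((hφ.stab t).1 (Op_le 2 _ ht')) (h.Leven φ hφ t (TleL ht')) ?_
  rw [← map_mul, ← hφ.ker]
  exact h.QK (h.Tsq t ht')

theorem phi_T (h : Pre A B g) : ((Op 2 (A ⊓ B)).subgroupOf A).map φ = V4 := by
  refine Subgroup.eq_of_le_of_card_ge (phi_T_le hφ h) ?_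
  rw [V4_card, ← hφ.relIndex_core_eq ((Op_le 2 _).trans inf_le_left), ← Subgroup.inf_relIndex_right, inf_comm, h.TK,
    h.Tidx]

omit hφ in
theorem three_key : ∀ σ : Equiv.Perm (Fin 5), σ 0 ≠ 0 → ∃ v w : Equiv.Perm (Fin 5), (v = v1 ∨ v = v2 ∨ v = v3) ∧
    (w = v1 ∨ w = v2 ∨ w = v3) ∧ (σ * v * σ⁻¹ * w) ^ 3 = 1 ∧ σ * v * σ⁻¹ * w ≠ 1 := by
  have key : ∀ σ : Equiv.Perm (Fin 5), σ 0 ≠ 0 →
      ((σ * v1 * σ⁻¹ * v1) ^ 3 = 1 ∧ σ * v1 * σ⁻¹ * v1 ≠ 1) ∨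
      ((σ * v1 * σ⁻¹ * v2) ^ 3 = 1 ∧ σ * v1 * σ⁻¹ * v2 ≠ 1) ∨
      ((σ * v1 * σ⁻¹ * v3) ^ 3 = 1 ∧ σ * v1 * σ⁻¹ * v3 ≠ 1) := by decide +kernel
  intro σ hσ
  rcases key σ hσ with h | h | h
  · exact ⟨v1, v1, Or.inl rfl, Or.inl rfl, h⟩
  · exact ⟨v1, v2, Or.inl rfl, Or.inr (Or.inl rfl), h⟩
  · exact ⟨v1, v3, Or.inl rfl, Or.inr (Or.inr rfl), h⟩

omit hφ in
theorem alt_le_of {R : Subgroup (Equiv.Perm (Fin 5))} (hV : V4 ≤ R) {σ : Equiv.Perm (Fin 5)} (hσ : σ ∈ R)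
    (h0 : σ 0 ≠ 0) : alternatingGroup (Fin 5) ≤ R := by
  classical
  obtain ⟨v, w, hv, hw, h1, h2⟩ := three_key σ h0
  have hvR : v ∈ R := hV (Or.inr hv)
  have hwR : w ∈ R := hV (Or.inr hw)
  have h4 : (σ * v * σ⁻¹ * w).IsThreeCycle := card_support_eq_three_iff.1 (three_cycle_key _ h1 h2)
  have htr : ∀ i, ∃ τ ∈ R, τ 0 = i := by
    intro i
    by_cases hi : i = 0
    · exact ⟨1, R.one_mem, by rw [hi]; rfl⟩
    · rcases V4_trans (σ 0) i h0 hi with h | h | h | h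
      · exact ⟨σ, hσ, h⟩
      · exact ⟨v1 * σ, R.mul_mem (hV (Or.inr (Or.inl rfl))) hσ, h⟩
      · exact ⟨v2 * σ, R.mul_mem (hV (Or.inr (Or.inr (Or.inl rfl)))) hσ, h⟩
      · exact ⟨v3 * σ, R.mul_mem (hV (Or.inr (Or.inr (Or.inr rfl)))) hσ, h⟩
  have h5 : MulAction.IsPretransitive R (Fin 5) := by
    constructor
    intro i j
    obtain ⟨a, ha, h6⟩ := htr i
    obtain ⟨b, hb, h7⟩ := htr j
    refine ⟨⟨b * a⁻¹, R.mul_mem hb (R.inv_mem ha)⟩, ?_⟩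
    show (b * a⁻¹) i = j
    rw [Equiv.Perm.mul_apply, ← h6, ← h7]
    simp
  have h6 : MulAction.IsPreprimitive R (Fin 5) := by
    apply MulAction.IsPreprimitive.of_prime_card
    rw [Nat.card_fin]
    norm_num
  exact Equiv.Perm.alternatingGroup_le_of_isPreprimitive_of_isThreeCycle_mem h6 h4
    (R.mul_mem (R.mul_mem (R.mul_mem hσ hvR) (R.inv_mem hσ)) hwR)

/-- a subgroup of `A` containing `T` and not in `D` has image containing `A₅` -/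
theorem hasAlt_of (h : Pre A B g) {M : Subgroup G} (hTM : Op 2 (A ⊓ B) ≤ M) (hMA : M ≤ A) (hM : ¬ M ≤ A ⊓ B) :
    HasAlt φ M := by
  obtain ⟨m, hm, h1⟩ := SetLike.not_le_iff_exists.1 hM
  have h2 : φ ⟨m, hMA hm⟩ 0 ≠ 0 := fun h3 => h1 ((hφ.stab ⟨m, hMA hm⟩).2 h3)
  have h3 := alt_le_of (R := (M.subgroupOf A).map φ) (by
    rw [← phi_T hφ h]
    exact Subgroup.map_mono (Subgroup.comap_mono hTM)) ⟨⟨m, hMA hm⟩, hm, rfl⟩ h2
  intro σ hσ
  obtain ⟨l, hl, h4⟩ := h3 (Equiv.Perm.mem_alternatingGroup.2 hσ)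
  exact ⟨l, hl, h4⟩

/-- a subgroup of `L₁` containing `T` with image `A₅` is `L₁` -/
theorem eq_of_hasAlt (h : Pre A B g) {M : Subgroup G} (hTM : Op 2 (A ⊓ B) ≤ M) (hML : M ≤ LL A B)
    (hM : HasAlt φ M) : M = LL A B := by
  refine le_antisymm hML (ncl_le' ?_)
  have key : ∀ l ∈ LL A B, cj l (Op 2 (A ⊓ B)) ≤ M := by
    intro l hl
    have hlA := h.Lle hl
    obtain ⟨m, hm, h1⟩ := hM _ (h.Leven φ hφ ⟨l, hlA⟩ hl)
    have h2 : (m : G)⁻¹ * l ∈ core A (A ⊓ B) := by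
      have := (hφ.ker (m⁻¹ * ⟨l, hlA⟩)).2 (by rw [map_mul, map_inv, h1, inv_mul_cancel])
      exact this
    have h3 : cj ((m : G)⁻¹ * l) (Op 2 (A ⊓ B)) = Op 2 (A ⊓ B) :=
      cj_of_mem_Nm (DNmT (core_le _ _ h2))
    have h4 : cj l (Op 2 (A ⊓ B)) = cj (m : G) (Op 2 (A ⊓ B)) := by
      conv_rhs => rw [← h3, ← cj_mul, mul_inv_cancel_left]
    rw [h4, ← cj_of_mem hm, cj_le_cj]
    exact hTM
  intro a ha
  obtain ⟨l, hl, -, d, hd, -, rfl⟩ := hφ.le_sup (h.Lalt φ hφ) ha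
  rw [cj_mul, cj_of_mem_Nm (DNmT hd)]
  exact key l hl

theorem eq_L (h : Pre A B g) {M : Subgroup G} (hTM : Op 2 (A ⊓ B) ≤ M) (hML : M ≤ LL A B)
    (hM : ¬ M ≤ A ⊓ B) : M = LL A B :=
  eq_of_hasAlt hφ h hTM hML (hasAlt_of hφ h hTM (hML.trans h.Lle) hM)

theorem L_not_le (h : Pre A B g) : ¬ LL A B ≤ A ⊓ B := by
  intro h1
  obtain ⟨l, hl, h2⟩ := h.Lalt φ hφ (Equiv.swap 0 1 * Equiv.swap 1 2) (by decide)
  have h3 := (hφ.stab l).1 (h1 hl)
  rw [h2] at h3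
  exact absurd h3 (by decide)

/-- `T` is in exactly one maximal subgroup of `L₁` -/
theorem unique_max (h : Pre A B g) (S' : Subgroup ↥(LL A B)) (hS : S'.map (LL A B).subtype = Op 2 (A ⊓ B)) :
    ∃! M : Subgroup ↥(LL A B), IsCoatom M ∧ S' ≤ M := by
  have h1 : ∀ M : Subgroup ↥(LL A B), S' ≤ M → M ≠ ⊤ → M ≤ (A ⊓ B).subgroupOf (LL A B) := by
    intro M hSM hM
    by_contra hcon
    apply hM
    have h2 : M.map (LL A B).subtype = LL A B := by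
      refine eq_L hφ h ?_ (Subgroup.map_subtype_le M) ?_
      · rw [← hS]
        exact Subgroup.map_mono hSM
      · intro h3
        apply hcon
        intro m hm
        exact h3 ⟨m, hm, rfl⟩
    rw [eq_top_iff]
    intro l _
    have h3 : (l : G) ∈ M.map (LL A B).subtype := by
      rw [h2]
      exact l.2
    obtain ⟨m, hm, h4⟩ := h3
    have h5 : m = l := Subtype.ext h4
    rwa [← h5]
  have hne : (A ⊓ B).subgroupOf (LL A B) ≠ ⊤ := by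
    intro h2
    exact L_not_le hφ h (Subgroup.subgroupOf_eq_top.1 h2)
  have hSD : S' ≤ (A ⊓ B).subgroupOf (LL A B) := by
    intro s hs
    have h2 : (s : G) ∈ Op 2 (A ⊓ B) := by
      rw [← hS]
      exact ⟨s, hs, rfl⟩
    exact Op_le 2 (A ⊓ B) h2
  refine ⟨(A ⊓ B).subgroupOf (LL A B), ⟨⟨hne, ?_⟩, hSD⟩, ?_⟩
  · intro M hM
    by_contra hcon
    exact not_le_of_gt hM (h1 M (hSD.trans hM.le) hcon)
  · rintro M ⟨hM, hSM⟩
    have h2 := h1 M hSM hM.1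
    by_contra hcon
    exact hne (hM.2 _ (lt_of_le_of_ne h2 hcon))

end

/-! ### the hypotheses of S2764 and S2765 -/

section

variable [Finite G] {A B : Subgroup G} {g : G}

theorem Op_L (h : Pre A B g) : Op 2 (LL A B) = Op 2 A := by
  apply le_antisymm
  · refine le_Op ((Op_le 2 _).trans h.Lle) ?_ (isPGroup_Op 2 _)
    exact ANmL.trans (Nm_le_Nm_Op 2 _)
  · exact le_Op (QleL h) (h.Lle.trans (le_Nm_Op 2 A)) (isPGroup_Op 2 A)

theorem pCore_L (h : Pre A B g) : Cfsg.pCore 2 ↥(LL A B) = (Op 2 A).subgroupOf (LL A B) := by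
  rw [← Op_L h, Op, Subgroup.subgroupOf, Subgroup.comap_map_eq_self_of_injective (LL A B).subtype_injective]

theorem hE1 (h : Pre A B g) : Subgroup.centralizer (Cfsg.pCore 2 ↥(LL A B) : Set ↥(LL A B)) ≤ Cfsg.pCore 2 ↥(LL A B) := by
  intro x hx
  rw [pCore_L h] at hx ⊢
  refine h.cent x (h.Lle x.2) ?_
  intro y hy
  exact congrArg Subtype.val (Subgroup.mem_centralizer_iff.1 hx ⟨y, QleL h hy⟩ hy)

theorem hd (h : Pre A B g) (S' : Subgroup ↥(LL A B)) (hS : S'.map (LL A B).subtype = Op 2 (A ⊓ B))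
    (C : Subgroup ↥S') (hC0 : C ≠ ⊥) (hC : C.Characteristic) : ¬ (C.map S'.subtype).Normal := by
  intro hn
  apply hC0
  have hchar := fun {x : G} (hx : x ∈ Nm (Op 2 (A ⊓ B))) => cj_of_char S' hS C hC hx
  set C' := (C.map S'.subtype).map (LL A B).subtype with hC'
  have hle : C' ≤ A ⊓ B := by
    refine (Subgroup.map_mono (Subgroup.map_subtype_le C)).trans ?_
    rw [hS]
    exact Op_le 2 _
  have hg : cj g C' = C' := hchar (by
    rw [mem_Nm, cj_Op, h.gD])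
  have hL : LL A B ≤ Nm C' := by
    rw [le_Nm]
    rintro l hl _ ⟨c, hc, rfl⟩
    exact ⟨⟨l, hl⟩ * c * ⟨l, hl⟩⁻¹, hn.conj_mem c hc _, rfl⟩
  have hA : A ≤ Nm C' := by
    refine h.LD.trans (sup_le hL ?_)
    intro d hd
    exact mem_Nm.2 (hchar (DNmT hd))
  have h1 := h.char C' hle hg hA
  rw [hC', Subgroup.map_eq_bot_iff_of_injective _ (LL A B).subtype_injective,
    Subgroup.map_eq_bot_iff_of_injective _ S'.subtype_injective] at h1
  exact h1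

theorem exists_K (h : Pre A B g) : ∃ K : Subgroup ↥(LL A B), ∃ _ : K.Normal,
    Nonempty (↥(LL A B) ⧸ K ≃* alternatingGroup (Fin 5)) := by
  obtain ⟨φ, hφ⟩ := exists_hom5 (C := A ⊓ B) h.pr.idx
  let f : ↥(LL A B) →* Equiv.Perm (Fin 5) := φ.comp (Subgroup.inclusion h.Lle)
  have hf : f.range = alternatingGroup (Fin 5) := by
    rw [← map_L hφ h]
    ext σ
    constructor
    · rintro ⟨l, rfl⟩
      exact ⟨Subgroup.inclusion h.Lle l, l.2, rfl⟩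
    · rintro ⟨a, ha, rfl⟩
      exact ⟨⟨a, ha⟩, rfl⟩
  exact ⟨f.ker, inferInstance, ⟨(QuotientGroup.quotientKerEquivRange f).trans (MulEquiv.subgroupCongr hf)⟩⟩

theorem card_SL24 : Nat.card SL24 = 60 := by
  have : Fintype F4 := Fintype.ofFinite _
  have h1 : Fintype.card F4 = 4 := by
    rw [← Nat.card_eq_fintype_card]
    exact NK.card_F4
  have h2 := Cfsg.Agent.S0242.result h1 2 (by norm_num)
  have h3 : ∏ i : Fin 2, (4 ^ 2 - 4 ^ (i : ℕ)) = 180 := by decide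
  rw [h3] at h2
  change (4 - 1) * Nat.card SL24 = 180 at h2
  omega

theorem push_raw (h : Pre A B g) : ∃ S : Sylow 2 ↥(LL A B), (S : Subgroup ↥(LL A B)).map (LL A B).subtype = Op 2 (A ⊓ B) ∧
    Nonempty (↥(LL A B) ⧸ Cfsg.pCore 2 ↥(LL A B) ≃* SL24) ∧
    (∀ (U W : Subgroup ↥(LL A B)) [W.Normal], U ≤ Cfsg.pCore 2 ↥(LL A B) → Cfsg.IsChiefFactor U W →
      ¬ ⁅U, (⊤ : Subgroup ↥(LL A B))⁆ ≤ W →
      Cfsg.IsNaturalSL2Module F4 (U.map (QuotientGroup.mk' W)) (⊤ : Subgroup (↥(LL A B) ⧸ W))) ∧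
    (S : Subgroup ↥(LL A B)).lowerCentralSeries 2 = ⊥ := by
  have hF : Fintype F4 := Fintype.ofFinite _
  have h1 : Fintype.card F4 = 4 := by
    rw [← Nat.card_eq_fintype_card]
    exact NK.card_F4
  obtain ⟨φ, hφ⟩ := exists_hom5 (C := A ⊓ B) h.pr.idx
  obtain ⟨S, hS⟩ := H251.isSylowTwoIn_iff.1 (T_syl hφ h)
  obtain ⟨K, hK, ⟨e⟩⟩ := exists_K h
  obtain ⟨e'⟩ := Cfsg.Agent.S0252.result h1
  have hE3 : Nonempty (↥(LL A B) ⧸ K ≃* Matrix.ProjectiveSpecialLinearGroup (Fin 2) F4) := ⟨e.trans e'.symm⟩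
  have h2 := Cfsg.Agent.S2764.result S (hE1 h) (unique_max hφ h S hS) K F4 2 (by norm_num) (by rw [h1]; norm_num) hE3
    (fun T hT hc => hd h S hS T hT hc)
  have h3 := Cfsg.Agent.S2765.result S (hE1 h) (unique_max hφ h S hS) K F4 2 (by norm_num) (by rw [h1]; norm_num) hE3
    (fun T hT hc => hd h S hS T hT hc)
  refine ⟨S, hS, h2.1, h2.2, ?_⟩
  rcases h3 with h3 | h3
  · exact h3.1
  · exact absurd h3.1 (by norm_num)

theorem Lcard' (h : Pre A B g) : (Op 2 A).relIndex (LL A B) = 60 := by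
  obtain ⟨S, hS, ⟨e⟩, -, -⟩ := push_raw h
  rw [← card_SL24, ← Nat.card_congr e.toEquiv, pCore_L h]
  rfl

theorem LK' (h : Pre A B g) : LL A B ⊓ core A (A ⊓ B) = Op 2 A := by
  obtain ⟨φ, hφ⟩ := exists_hom5 (C := A ⊓ B) h.pr.idx
  refine le_antisymm ?_ (le_inf (QleL h) h.QK)
  have h1 := QL hφ h
  rw [Lcard' h] at h1
  rw [← Subgroup.relIndex_eq_one]
  omega

theorem cls' (h : Pre A B g) : ∀ x ∈ Op 2 (A ⊓ B), ∀ y ∈ Op 2 (A ⊓ B), ∀ z ∈ Op 2 (A ⊓ B),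
    x * y * x⁻¹ * y⁻¹ * z = z * (x * y * x⁻¹ * y⁻¹) := by
  obtain ⟨S, hS, -, -, h1⟩ := push_raw h
  rw [← hS]
  rintro _ ⟨x, hx, rfl⟩ _ ⟨y, hy, rfl⟩ _ ⟨z, hz, rfl⟩
  have h2 : ⁅⁅x, y⁆, z⁆ ∈ (S : Subgroup ↥(LL A B)).lowerCentralSeries 2 :=
    Subgroup.commutator_mem_commutator (Subgroup.commutator_mem_commutator hx hy) hz
  rw [h1, Subgroup.mem_bot, commutatorElement_eq_one_iff_mul_comm] at h2
  exact congrArg Subtype.val h2

theorem chief' (h : Pre A B g) : ∀ U W : Subgroup G, W ≤ U → U ≤ Op 2 A → LL A B ≤ Nm U → LL A B ≤ Nm W → W ≠ U →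
    (∀ N, W ≤ N → N ≤ U → LL A B ≤ Nm N → N = W ∨ N = U) →
    ¬ (∀ u ∈ U, ∀ l ∈ LL A B, l * u * l⁻¹ * u⁻¹ ∈ W) →
    ∃ (ρ : ↥(LL A B) →* SL24) (ψ : ↥U → (Fin 2 → F4)), Function.Surjective ρ ∧ Function.Surjective ψ ∧
      (∀ x y : U, ψ (x * y) = ψ x + ψ y) ∧
      (∀ l : LL A B, ρ l = 1 ↔ ∀ u ∈ U, (l : G) * u * (l : G)⁻¹ * u⁻¹ ∈ W) ∧
      (∀ u : U, ψ u = 0 ↔ (u : G) ∈ W) ∧
      (∀ (l : LL A B) (q q' : U), (q' : G) = l * q * (l : G)⁻¹ → ψ q' = (ρ l).1.mulVec (ψ q)) := by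
  intro U W hWU hUQ hLU hLW hne hmin hnc
  obtain ⟨S, hS, -, h1, -⟩ := push_raw h
  have hUL : U ≤ LL A B := hUQ.trans (QleL h)
  have hWL : W ≤ LL A B := hWU.trans hUL
  have hWn : (W.subgroupOf (LL A B)).Normal := (Subgroup.normal_subgroupOf_iff_le_normalizer hWL).2 hLW
  have hUn : (U.subgroupOf (LL A B)).Normal := (Subgroup.normal_subgroupOf_iff_le_normalizer hUL).2 hLU
  set U' := U.subgroupOf (LL A B) with hU'
  set W' := W.subgroupOf (LL A B) with hW'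
  have hcf : Cfsg.IsChiefFactor U' W' := by
    refine ⟨lt_of_le_of_ne (Subgroup.comap_mono hWU) ?_, hUn, hWn, ?_⟩
    · intro h2
      exact hne (by rw [← inf_of_le_left hWL, ← inf_of_le_left hUL, ← Subgroup.subgroupOf_inj, ← hU', ← hW', h2])
    · intro N hN h2 h3
      have h4 : N.map (LL A B).subtype ≤ U := by
        rintro _ ⟨n, hn, rfl⟩
        exact h3 hn
      have h5 : W ≤ N.map (LL A B).subtype := by
        intro w hw
        exact ⟨⟨w, hWL hw⟩, h2 hw, rfl⟩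
      have h6 : LL A B ≤ Nm (N.map (LL A B).subtype) := by
        rw [le_Nm]
        rintro l hl _ ⟨n, hn, rfl⟩
        exact ⟨⟨l, hl⟩ * n * ⟨l, hl⟩⁻¹, hN.conj_mem n hn _, rfl⟩
      have h7 : N = (N.map (LL A B).subtype).subgroupOf (LL A B) := by
        rw [Subgroup.subgroupOf, Subgroup.comap_map_eq_self_of_injective (LL A B).subtype_injective]
      rcases hmin _ h5 h4 h6 with h8 | h8
      · left
        rw [h7, h8]
      · right
        rw [h7, h8]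
  have hnc' : ¬ ⁅U', (⊤ : Subgroup ↥(LL A B))⁆ ≤ W' := by
    intro h2
    apply hnc
    intro u hu l hl
    have h3 : ⁅(⟨u, hUL hu⟩ : ↥(LL A B)), (⟨l, hl⟩ : ↥(LL A B))⁆ ∈ W' :=
      h2 (Subgroup.commutator_mem_commutator hu (Subgroup.mem_top _))
    have h4 := W'.inv_mem h3
    rw [commutatorElement_inv, commutatorElement_def] at h4
    exact h4
  have hUc : U' ≤ Cfsg.pCore 2 ↥(LL A B) := by
    rw [pCore_L h]
    exact Subgroup.comap_mono hUQ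
  obtain ⟨-, ρ0, ψ0, h2, h3, h4⟩ := h1 U' W' hUc hcf hnc'
  let ι : ↥U → ↥(U'.map (QuotientGroup.mk' W')) := fun u =>
    ⟨QuotientGroup.mk' W' ⟨u, hUL u.2⟩, ⟨⟨u, hUL u.2⟩, u.2, rfl⟩⟩
  have hι : Function.Surjective ι := by
    rintro ⟨_, ⟨u, hu, rfl⟩⟩
    exact ⟨⟨u, hu⟩, rfl⟩
  let ρ : ↥(LL A B) →* SL24 := ρ0.comp ((Subgroup.topEquiv.symm.toMonoidHom).comp (QuotientGroup.mk' W'))
  let ψ : ↥U → (Fin 2 → F4) := fun u => ψ0 (Additive.ofMul (ι u))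
  refine ⟨ρ, ψ, ?_, ?_, ?_, ?_, ?_, ?_⟩
  · exact h2.comp (Subgroup.topEquiv.symm.surjective.comp (QuotientGroup.mk'_surjective W'))
  · exact ψ0.surjective.comp (Additive.ofMul.surjective.comp hι)
  · intro x y
    show ψ0 (Additive.ofMul (ι (x * y))) = _
    have h5 : ι (x * y) = ι x * ι y := Subtype.ext (by
      show QuotientGroup.mk' W' _ = QuotientGroup.mk' W' _ * QuotientGroup.mk' W' _
      rw [← map_mul]
      rfl)
    rw [h5, ofMul_mul, map_add]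
  · intro l
    have h5 : ρ l = 1 ↔ Subgroup.topEquiv.symm (QuotientGroup.mk' W' l) ∈ ρ0.ker := by
      rw [MonoidHom.mem_ker]
      rfl
    rw [h5, h3, Subgroup.mem_subgroupOf, Subgroup.mem_centralizer_iff]
    constructor
    · intro h6 u hu
      have h7 := h6 (ι ⟨u, hu⟩) (ι ⟨u, hu⟩).2
      have h8 : QuotientGroup.mk' W' (⟨u, hUL hu⟩ * l) = QuotientGroup.mk' W' (l * ⟨u, hUL hu⟩) := by
        rw [map_mul, map_mul]
        exact h7
      have h9 : (QuotientGroup.mk' W') (l * ⟨u, hUL hu⟩ * (⟨u, hUL hu⟩ * l)⁻¹) = 1 := by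
        rw [map_mul, map_inv, h8, mul_inv_cancel]
      rw [QuotientGroup.mk'_apply, QuotientGroup.eq_one_iff] at h9
      have h10 : (l : G) * u * (u * l)⁻¹ ∈ W := h9
      rwa [mul_inv_rev, ← mul_assoc] at h10
    · rintro h6 _ ⟨u, hu, rfl⟩
      have h7 : (l : G) * u * (l : G)⁻¹ * (u : G)⁻¹ ∈ W := h6 u hu
      have h8 : (QuotientGroup.mk' W') (l * u * l⁻¹ * u⁻¹) = 1 := by
        rw [QuotientGroup.mk'_apply, QuotientGroup.eq_one_iff]
        exact h7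
      rw [map_mul, map_mul, map_mul, map_inv, map_inv, mul_inv_eq_one, mul_inv_eq_iff_eq_mul] at h8
      exact h8.symm
  · intro u
    show ψ0 _ = 0 ↔ _
    rw [map_eq_zero_iff _ ψ0.injective]
    have h5 : Additive.ofMul (ι u) = 0 ↔ QuotientGroup.mk' W' ⟨u, hUL u.2⟩ = 1 := by
      constructor
      · intro h6
        exact congrArg Subtype.val (Additive.ofMul.injective (h6.trans ofMul_one.symm))
      · intro h6
        have h7 : ι u = 1 := Subtype.ext h6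
        rw [h7]
        rfl
    rw [h5, QuotientGroup.mk'_apply, QuotientGroup.eq_one_iff]
    rfl
  · intro l q q' hq
    obtain ⟨w, hw, h5⟩ := h4 (Subgroup.topEquiv.symm (QuotientGroup.mk' W' l)) (ι q)
    have h6 : w = ι q' := by
      apply Subtype.ext
      rw [hw]
      have h7 : (⟨(q' : G), hUL q'.2⟩ : ↥(LL A B)) = l * ⟨q, hUL q.2⟩ * l⁻¹ := Subtype.ext hq
      show _ = QuotientGroup.mk' W' ⟨(q' : G), hUL q'.2⟩
      rw [h7, map_mul, map_mul, map_inv]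
      rfl
    rw [h6] at h5
    exact h5

theorem simple' (h : Pre A B g) : ∀ N ≤ LL A B, Op 2 A ≤ N → LL A B ≤ Nm N → N = Op 2 A ∨ N = LL A B := by
  intro N hNL hQN hLN
  obtain ⟨φ, hφ⟩ := exists_hom5 (C := A ⊓ B) h.pr.idx
  by_cases h1 : N ≤ core A (A ⊓ B)
  · left
    refine le_antisymm ?_ hQN
    rw [← LK' h]
    exact le_inf hNL h1
  · right
    have h2 := hφ.normal_alt (h.Lalt φ hφ) (hNL.trans h.Lle) hLN h1
    refine le_antisymm hNL ?_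
    intro l hl
    obtain ⟨n, hn, h3⟩ := h2 _ (h.Leven φ hφ ⟨l, h.Lle hl⟩ hl)
    have h4 : (n : G)⁻¹ * l ∈ core A (A ⊓ B) := by
      have := (hφ.ker (n⁻¹ * ⟨l, h.Lle hl⟩)).2 (by rw [map_mul, map_inv, h3, inv_mul_cancel])
      exact this
    have h5 : (n : G)⁻¹ * l ∈ Op 2 A := by
      rw [← LK' h]
      exact ⟨(LL A B).mul_mem ((LL A B).inv_mem (hNL hn)) hl, h4⟩
    have h6 := N.mul_mem hn (hQN h5)
    rwa [mul_inv_cancel_left] at h6

theorem nonab' (h : Pre A B g) : ∃ x ∈ LL A B, ∃ y ∈ LL A B, x * y * x⁻¹ * y⁻¹ ∉ Op 2 A := by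
  obtain ⟨φ, hφ⟩ := exists_hom5 (C := A ⊓ B) h.pr.idx
  obtain ⟨x, hx, h1⟩ := h.Lalt φ hφ (Equiv.swap 0 1 * Equiv.swap 1 2) (by decide)
  obtain ⟨y, hy, h2⟩ := h.Lalt φ hφ (Equiv.swap 2 3 * Equiv.swap 3 4) (by decide)
  refine ⟨x, hx, y, hy, ?_⟩
  intro h3
  have h4 := (hφ.ker (x * y * x⁻¹ * y⁻¹)).1 (h.QK h3)
  rw [map_mul, map_mul, map_mul, map_inv, map_inv, h1, h2] at h4
  exact absurd h4 (by decide)

theorem Lgen' (h : Pre A B g) : ∃ a ∈ A, LL A B = Op 2 (A ⊓ B) ⊔ cj a (Op 2 (A ⊓ B)) := by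
  obtain ⟨φ, hφ⟩ := exists_hom5 (C := A ⊓ B) h.pr.idx
  obtain ⟨a, ha⟩ := hφ.trans 1
  refine ⟨a, a.2, ?_⟩
  refine (eq_L hφ h le_sup_left (sup_le TleL ?_) ?_).symm
  · exact cj_le_ncl a.2
  · intro h1
    -- all of `V4` conjugated by `φ a` fixes `0`
    have h2 : v1 ∈ ((Op 2 (A ⊓ B)).subgroupOf A).map φ := by
      rw [phi_T hφ h]
      exact Or.inr (Or.inl rfl)
    obtain ⟨t, ht, h3⟩ := h2
    have h4 : (a : G) * t * (a : G)⁻¹ ∈ A ⊓ B := h1 ((le_sup_right : cj (a : G) (Op 2 (A ⊓ B)) ≤ _) (conj_mem_cj.2 ht))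
    have h5 := (hφ.stab (a * t * a⁻¹)).1 h4
    rw [map_mul, map_mul, map_inv, h3, Equiv.Perm.mul_apply, Equiv.Perm.mul_apply] at h5
    have h6 : v1 ((φ a)⁻¹ 0) = (φ a)⁻¹ 0 := by
      rw [Equiv.Perm.eq_inv_iff_eq]
      exact h5
    have h7 : ∀ i : Fin 5, v1 i = i → i = 0 := by decide
    have h8 := h7 _ h6
    rw [Equiv.Perm.inv_eq_iff_eq, ha] at h8
    exact absurd h8 (by decide)

theorem pushup (h : Pre A B g) : Push A B g where
  toPre := h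
  LK := LK' h
  Lcard := Lcard' h
  cls := cls' h
  Lgen := Lgen' h
  simple := simple' h
  nonab := nonab' h
  chief := chief' h

end

end Cfsg.Agent.H647.Five
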